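import Mathlib.CategoryTheory.Presentable.Finite
import Mathlib.Algebra.Category.Ring.Basic
import Mathlib.CategoryTheory.Comma.Over.Basic
import Mathlib.CategoryTheory.Limits.Types.Filtered

/-!
Directed colimits of algebras inside a full subcategory of algebras.
-/

set_option autoImplicit false
set_option linter.style.haveILetI false
universe u

open CategoryTheory Limits

namespace Groth.Agent.H1PerfFP

variable {B : CommRingCat.{u}} {P : ObjectProperty (Under B)} (A : P.FullSubcategory)
  {ι : Type u} [PartialOrder ι] [IsDirectedOrder ι] [Nonempty ι]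
  (R : ι → Type u) [∀ i, CommRing (R i)] (b : ∀ i, B →+* R i)
  (hR : ∀ i, P (Under.mk (CommRingCat.ofHom (b i))))
  (t : ∀ i j, i ≤ j → R i →+* R j) (tid : ∀ i x, t i i le_rfl x = x)
  (tcomp : ∀ i j k (hij : i ≤ j) (hjk : j ≤ k) x, t j k hjk (t i j hij x) = t i k (hij.trans hjk) x)
  (tb : ∀ i j (h : i ≤ j) x, t i j h (b i x) = b j x)
  (π : ∀ i, R i →+* A.obj.right) (πb : ∀ i x, π i (b i x) = A.obj.hom x)
  (πt : ∀ i j (h : i ≤ j) x, π j (t i j h x) = π i x)
  (surj : ∀ a, ∃ i x, π i x = a)
  (inj : ∀ i x, π i x = 0 → ∃ j, ∃ h : i ≤ j, t i j h x = 0)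

/-- The diagram. -/
noncomputable def diag : ι ⥤ P.FullSubcategory where
  obj i := ⟨Under.mk (CommRingCat.ofHom (b i)), hR i⟩
  map {i j} f := ObjectProperty.homMk (Under.homMk (CommRingCat.ofHom (t i j (leOfHom f)))
    (CommRingCat.hom_ext (RingHom.ext fun x => tb i j (leOfHom f) x)))
  map_id i := ObjectProperty.hom_ext _ (Under.UnderMorphism.ext (CommRingCat.hom_ext (RingHom.ext fun x => tid i x)))
  map_comp {i j k} f g := ObjectProperty.hom_ext _ (Under.UnderMorphism.ext (CommRingCat.hom_ext
    (RingHom.ext fun x => (tcomp i j k (leOfHom f) (leOfHom g) x).symm)))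

include hR tid tcomp tb πb πt surj inj in
/-- An endomorphism of the colimit factors through a stage. -/
theorem exists_section [IsFinitelyPresentable.{u} A] :
    ∃ (i : ι) (h : A.obj.right →+* R i), (∀ a, π i (h a) = a) ∧ ∀ x, h (A.obj.hom x) = b i x := by
  let D := diag R b hR t tid tcomp tb
  let c : Cocone D :=
    { pt := A
      ι :=
        { app := fun i => ObjectProperty.homMk (Under.homMk (CommRingCat.ofHom (π i))
            (CommRingCat.hom_ext (RingHom.ext fun x => πb i x)))
          naturality := fun i j f => ObjectProperty.hom_ext _ (Under.UnderMorphism.ext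
            (CommRingCat.hom_ext (RingHom.ext fun x => πt i j (leOfHom f) x))) } }
  have hc : Nonempty (IsColimit c) := by
    choose iA xA hxA using surj
    have key : ∀ (s : Cocone D) i (x : R i) j (y : R j), π i x = π j y →
        (s.ι.app i).hom.right.hom x = (s.ι.app j).hom.right.hom y := by
      intro s i x j y h
      obtain ⟨k, hik, hjk⟩ := exists_ge_ge i j
      obtain ⟨l, hkl, hl⟩ := inj k (t i k hik x - t j k hjk y) (by rw [map_sub, πt, πt, h, sub_self])
      rw [map_sub, tcomp, tcomp, sub_eq_zero] at hl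
      have h1 : ∀ i (hil : i ≤ l) (z : R i),
          (s.ι.app i).hom.right.hom z = (s.ι.app l).hom.right.hom (t i l hil z) := fun i hil z => by
        rw [← s.w (homOfLE hil)]
        rfl
      rw [h1 i (hik.trans hkl), h1 j (hjk.trans hkl), hl]
    let desc : ∀ s : Cocone D, A.obj.right →+* s.pt.obj.right := fun s =>
      { toFun := fun a => (s.ι.app (iA a)).hom.right.hom (xA a)
        map_one' := (key s _ _ (iA 1) 1 ((hxA 1).trans (map_one (π (iA 1))).symm)).trans
          (map_one (s.ι.app (iA 1)).hom.right.hom)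
        map_zero' := (key s _ _ (iA 0) 0 ((hxA 0).trans (map_zero (π (iA 0))).symm)).trans
          (map_zero (s.ι.app (iA 0)).hom.right.hom)
        map_mul' := fun a a' => by
          obtain ⟨k, hk, hk'⟩ := exists_ge_ge (iA a) (iA a')
          rw [key s _ (xA (a * a')) k (t _ _ hk (xA a) * t _ _ hk' (xA a'))
            (by rw [map_mul, πt, πt, hxA, hxA, hxA]),
            key s _ (xA a) k (t _ _ hk (xA a)) (πt _ _ hk _).symm,
            key s _ (xA a') k (t _ _ hk' (xA a')) (πt _ _ hk' _).symm]
          exact map_mul (s.ι.app k).hom.right.hom _ _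
        map_add' := fun a a' => by
          obtain ⟨k, hk, hk'⟩ := exists_ge_ge (iA a) (iA a')
          rw [key s _ (xA (a + a')) k (t _ _ hk (xA a) + t _ _ hk' (xA a'))
            (by rw [map_add, πt, πt, hxA, hxA, hxA]),
            key s _ (xA a) k (t _ _ hk (xA a)) (πt _ _ hk _).symm,
            key s _ (xA a') k (t _ _ hk' (xA a')) (πt _ _ hk' _).symm]
          exact map_add (s.ι.app k).hom.right.hom _ _ }
    refine ⟨
      { desc := fun s => ObjectProperty.homMk (Under.homMk (CommRingCat.ofHom (desc s))
          (CommRingCat.hom_ext (RingHom.ext fun x =>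
            (key s (iA (A.obj.hom x)) _ _ (b _ x) ((hxA _).trans (πb _ x).symm)).trans
              (ConcreteCategory.congr_hom (Under.w (s.ι.app (iA (A.obj.hom x))).hom) x))))
        fac := fun s i => ObjectProperty.hom_ext _ (Under.UnderMorphism.ext
          (CommRingCat.hom_ext (RingHom.ext fun x => key s _ _ i x (hxA (π i x)))))
        uniq := fun s m hm => ObjectProperty.hom_ext _ (Under.UnderMorphism.ext
          (CommRingCat.hom_ext (RingHom.ext fun a =>
            (congrArg m.hom.right.hom (hxA a).symm).trans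
              (congrArg (fun g => g.hom.right.hom (xA a)) (hm (iA a)))))) }⟩
  obtain ⟨hc⟩ := hc
  obtain ⟨i, f, hf⟩ := IsFinitelyPresentable.exists_hom_of_isColimit hc (𝟙 A)
  refine ⟨i, f.hom.right.hom, fun a => ?_, fun x => ?_⟩
  · exact congrArg (fun g => g.hom.right.hom a) hf
  · exact ConcreteCategory.congr_hom (Under.w f.hom) x

end Groth.Agent.H1PerfFP
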