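import Groth.Agent.H1PerfFP.Colim
import Mathlib.FieldTheory.IsPerfectClosure
import Mathlib.FieldTheory.PerfectClosure
import Mathlib.RingTheory.FinitePresentation
import Mathlib.RingTheory.Ideal.Quotient.Operations
import Mathlib.Algebra.CharP.Lemmas
import Mathlib.Algebra.MvPolynomial.Eval
import Mathlib.RingTheory.Adjoin.FG

/-!
Finitely presentable perfect algebras are perfections of finitely presented algebras.
-/

set_option autoImplicit false
set_option linter.style.haveILetI false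
universe u

open CategoryTheory

namespace Groth.Agent.H1PerfFP

abbrev PerfP (p : ℕ) (B : CommRingCat.{u}) : ObjectProperty (Under B) :=
  fun Y => (p : Y.right) = 0 ∧ Function.Bijective fun y : Y.right => y ^ p

variable {p : ℕ} [Fact p.Prime] {B : CommRingCat.{u}} (A : (PerfP p B).FullSubcategory)

/-- Elements with a power in a finitely generated subalgebra. -/
def powClosure {R S : Type u} [CommRing R] [CommRing S] [Algebra R S] (q : ℕ) [Fact q.Prime] [CharP S q]
    (T : Set S) : Subalgebra R S where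
  carrier := {a | ∃ n, a ^ q ^ n ∈ Algebra.adjoin R T}
  mul_mem' := by
    rintro a b ⟨n, hn⟩ ⟨m, hm⟩
    refine ⟨n + m, ?_⟩
    rw [mul_pow, pow_add]
    refine mul_mem ?_ ?_
    · rw [pow_mul]; exact pow_mem hn _
    · rw [mul_comm, pow_mul]; exact pow_mem hm _
  add_mem' := by
    rintro a b ⟨n, hn⟩ ⟨m, hm⟩
    refine ⟨n + m, ?_⟩
    rw [add_pow_char_pow, pow_add]
    refine add_mem ?_ ?_
    · rw [pow_mul]; exact pow_mem hn _
    · rw [mul_comm, pow_mul]; exact pow_mem hm _
  algebraMap_mem' r := ⟨0, by simpa using (Algebra.adjoin R T).algebraMap_mem r⟩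

theorem exists_finset [CharP A.obj.right p] [IsFinitelyPresentable.{u} A] :
    ∃ s : Finset A.obj.right, ∀ a : A.obj.right, ∃ n,
      letI := A.obj.hom.hom.toAlgebra
      a ^ p ^ n ∈ Algebra.adjoin B (s : Set A.obj.right) := by
  classical
  letI := A.obj.hom.hom.toAlgebra
  obtain ⟨R, hmem⟩ : ∃ R : Finset A.obj.right → Subalgebra B A.obj.right,
      ∀ s a, a ∈ R s ↔ ∃ n, a ^ p ^ n ∈ Algebra.adjoin B (s : Set A.obj.right) :=
    ⟨fun s => powClosure p (s : Set A.obj.right), fun _ _ => Iff.rfl⟩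
  have hmono : ∀ s s', s ≤ s' → R s ≤ R s' := fun s s' h a ha => by
    rw [hmem] at ha ⊢
    obtain ⟨n, hn⟩ := ha
    exact ⟨n, Algebra.adjoin_mono (Finset.coe_subset.2 h) hn⟩
  have hperf : ∀ s, PerfP p B (Under.mk (CommRingCat.ofHom (algebraMap B (R s)))) := fun s =>
    ⟨Subtype.ext (by simpa using A.property.1),
      fun x y hxy => Subtype.ext (A.property.2.1 (congrArg Subtype.val hxy)),
      fun y => by
        obtain ⟨x, hx⟩ := A.property.2.2 y.1
        obtain ⟨n, hn⟩ := (hmem s y.1).1 y.2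
        refine ⟨⟨x, (hmem s x).2 ⟨n + 1, ?_⟩⟩, Subtype.ext hx⟩
        rw [pow_succ', pow_mul, show x ^ p = y.1 from hx]
        exact hn⟩
  obtain ⟨s, h, hh, -⟩ := exists_section A (fun s => ↥(R s)) (fun s => algebraMap B _) hperf
    (fun s s' hss => (Subalgebra.inclusion (hmono s s' hss)).toRingHom)
    (fun _ _ => Subtype.ext rfl) (fun _ _ _ _ _ _ => Subtype.ext rfl) (fun _ _ _ _ => Subtype.ext rfl)
    (fun s => (R s).val.toRingHom) (fun _ _ => rfl) (fun _ _ _ _ => rfl)
    (fun a => ⟨{a}, ⟨a, (hmem _ _).2 ⟨0, by simpa using Algebra.subset_adjoin (Set.mem_singleton a)⟩⟩, rfl⟩)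
    (fun s x hx => ⟨s, le_rfl, Subtype.ext hx⟩)
  refine ⟨s, fun a => ?_⟩
  have h2 : (h a).1 = a := hh a
  obtain ⟨n, hn⟩ := (hmem _ _).1 (h a).2
  exact ⟨n, h2 ▸ hn⟩

theorem quot_section [IsFinitelyPresentable.{u} A] {Q : Type u} [CommRing Q] [CharP Q p] [PerfectRing Q p]
    (bQ : B →+* Q) (ρi : Q →+* A.obj.right) (hb : ∀ x, ρi (bQ x) = A.obj.hom x)
    (hsurj : Function.Surjective ρi) {J : Type u} [PartialOrder J] [IsDirectedOrder J] [Nonempty J]
    (K : J → Ideal Q) (hrad : ∀ j, (K j).IsRadical) (hK : ∀ j, K j ≤ RingHom.ker ρi)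
    (hKm : ∀ i j, i ≤ j → K i ≤ K j) (hinj : ∀ i x, ρi x = 0 → ∃ j, i ≤ j ∧ x ∈ K j) :
    ∃ (j : J) (h : A.obj.right →+* Q ⧸ K j), (∀ a, Ideal.Quotient.lift (K j) ρi (hK j) (h a) = a) ∧
      ∀ x, h (A.obj.hom x) = Ideal.Quotient.mk (K j) (bQ x) := by
  have hperf : ∀ j, PerfP p B (Under.mk (CommRingCat.ofHom ((Ideal.Quotient.mk (K j)).comp bQ))) := fun j =>
    ⟨by
      show ((p : ℕ) : Q ⧸ K j) = 0
      rw [← map_natCast (Ideal.Quotient.mk (K j)), CharP.cast_eq_zero, map_zero],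
     fun x y hxy => by
      obtain ⟨x, rfl⟩ := Ideal.Quotient.mk_surjective x
      obtain ⟨y, rfl⟩ := Ideal.Quotient.mk_surjective y
      rw [Ideal.Quotient.eq]
      have hxy' : Ideal.Quotient.mk (K j) (x ^ p) = Ideal.Quotient.mk (K j) (y ^ p) := by
        rw [map_pow, map_pow]; exact hxy
      rw [Ideal.Quotient.eq, ← sub_pow_char] at hxy'
      exact hrad j ⟨p, hxy'⟩,
     fun y => by
      obtain ⟨y, rfl⟩ := Ideal.Quotient.mk_surjective y
      obtain ⟨z, hz⟩ := surjective_frobenius Q p y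
      refine ⟨Ideal.Quotient.mk _ z, ?_⟩
      show Ideal.Quotient.mk _ z ^ p = _
      rw [← map_pow, ← frobenius_def, hz]⟩
  exact exists_section A (fun j => Q ⧸ K j) (fun j => (Ideal.Quotient.mk (K j)).comp bQ) hperf
    (fun i j hij => Ideal.Quotient.factor (hKm i j hij))
    (fun i x => by obtain ⟨x, rfl⟩ := Ideal.Quotient.mk_surjective x; rfl)
    (fun _ _ _ _ _ x => by obtain ⟨x, rfl⟩ := Ideal.Quotient.mk_surjective x; rfl)
    (fun _ _ _ _ => rfl) (fun j => Ideal.Quotient.lift (K j) ρi (hK j)) (fun j x => hb x)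
    (fun _ _ _ x => by obtain ⟨x, rfl⟩ := Ideal.Quotient.mk_surjective x; rfl)
    (fun a => by
      obtain ⟨z, rfl⟩ := hsurj a
      exact ⟨Classical.arbitrary J, Ideal.Quotient.mk _ z, rfl⟩)
    (fun i x hx => by
      obtain ⟨z, rfl⟩ := Ideal.Quotient.mk_surjective x
      obtain ⟨j, hij, hz⟩ := hinj i z hx
      exact ⟨j, hij, Ideal.Quotient.eq_zero_iff_mem.2 hz⟩)

theorem core [CharP B p] [IsFinitelyPresentable.{u} A] [CharP A.obj.right p] [PerfectRing A.obj.right p]
    (s : Finset A.obj.right)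
    (hs : ∀ a : A.obj.right, ∃ n, letI := A.obj.hom.hom.toAlgebra
      a ^ p ^ n ∈ Algebra.adjoin B (s : Set A.obj.right))
    {Q : Type u} [CommRing Q] [CharP Q p] [PerfectRing Q p] (ι : MvPolynomial s B →+* Q)
    (hpow : ∀ z : Q, ∃ n y, ι y = z ^ p ^ n)
    (hlift : ∀ (L : Type u) [CommRing L] [CharP L p] [PerfectRing L p] (f : MvPolynomial s B →+* L),
      ∃ g : Q →+* L, ∀ y, g (ι y) = f y) :
    ∃ (A₀ : Type u) (_ : CommRing A₀) (_ : Algebra B A₀) (_ : Algebra.FinitePresentation B A₀)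
      (k : A₀ →+* A.obj.right), k.comp (algebraMap B A₀) = A.obj.hom.hom ∧ IsPRadical k p := by
  classical
  haveI : Nontrivial A.obj.right := CharP.nontrivial_of_char_ne_one (Fact.out : p.Prime).ne_one
  letI := A.obj.hom.hom.toAlgebra
  let P := MvPolynomial s B
  let ρ : P →ₐ[B] A.obj.right := MvPolynomial.aeval Subtype.val
  have hρ : ρ.range = Algebra.adjoin B (s : Set A.obj.right) := by
    rw [← Algebra.adjoin_range_eq_range_aeval]
    simp
  obtain ⟨ρi, hρi'⟩ := hlift A.obj.right ρ.toRingHom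
  have hρi : ∀ y, ρi (ι y) = ρ y := hρi'
  have hsurj : Function.Surjective ρi := fun a => by
    obtain ⟨n, hn⟩ := hs a
    obtain ⟨y, hy⟩ : a ^ p ^ n ∈ ρ.range := hρ ▸ hn
    obtain ⟨z, hz⟩ := (bijective_iterateFrobenius (Q) p n).2 (ι y)
    rw [iterateFrobenius_def] at hz
    refine ⟨z, (bijective_iterateFrobenius A.obj.right p n).1 ?_⟩
    rw [iterateFrobenius_def, iterateFrobenius_def, ← map_pow, hz, hρi]
    exact hy
  let K : Finset (RingHom.ker ρi) → Ideal (Q) := fun S =>
    (Ideal.span (Subtype.val '' (S : Set (RingHom.ker ρi)))).radical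
  have hK : ∀ S, K S ≤ RingHom.ker ρi := fun S =>
    (show (RingHom.ker ρi).IsRadical from fun x ⟨n, hn⟩ => (RingHom.mem_ker).2 <| by
      refine (bijective_iterateFrobenius A.obj.right p n).1 ?_
      rw [map_zero, iterateFrobenius_def]
      have h0 : ρi x ^ n = 0 := by rw [← map_pow]; exact hn
      exact pow_eq_zero_of_le (Nat.lt_pow_self (Fact.out : p.Prime).one_lt).le h0).radical_le_iff.2
      (Ideal.span_le.2 (by rintro _ ⟨x, -, rfl⟩; exact x.2))
  have hKm : ∀ S S', S ≤ S' → K S ≤ K S' := fun S S' h =>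
    Ideal.radical_mono (Ideal.span_mono (Set.image_mono (Finset.coe_subset.2 h)))
  obtain ⟨S, h, hh, hhb⟩ := quot_section A (ι.comp (algebraMap B P)) ρi
    (fun x => by
      show ρi (ι (algebraMap B P x)) = _
      rw [hρi, AlgHom.commutes]
      rfl)
    hsurj K (fun S => Ideal.radical_isRadical _) hK hKm
    (fun S x hx => ⟨insert ⟨x, hx⟩ S, Finset.subset_insert _ _,
      Ideal.le_radical (Ideal.subset_span ⟨⟨x, hx⟩, Finset.mem_insert_self _ _, rfl⟩)⟩)
  choose z hz using fun j : s => Ideal.Quotient.mk_surjective (h (j : A.obj.right))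
  choose nz yz hyz using fun j : s => hpow (z j)
  choose ns ys hys using fun x : RingHom.ker ρi => hpow x.1
  let N := Finset.univ.sup nz + S.sup ns
  let a : s → P := fun j => yz j ^ p ^ (N - nz j)
  let c : RingHom.ker ρi → P := fun x => ys x ^ p ^ (N - ns x)
  have ha : ∀ j, ι (a j) = z j ^ p ^ N := fun j => by
    rw [map_pow, hyz, ← pow_mul, ← pow_add, Nat.add_sub_cancel' (le_add_right (Finset.le_sup (Finset.mem_univ j)))]
  have hc : ∀ x ∈ S, ι (c x) = x.1 ^ p ^ N := fun x hx => by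
    rw [map_pow, hys, ← pow_mul, ← pow_add, Nat.add_sub_cancel' (le_add_left (Finset.le_sup hx))]
  let G : Finset P := S.image c ∪ Finset.univ.image fun j => MvPolynomial.X j ^ p ^ N - a j
  let A₀ := P ⧸ Ideal.span (G : Set P)
  have hG : Ideal.span (G : Set P) ≤ RingHom.ker ρ.toRingHom := by
    rw [Ideal.span_le]
    intro g hg
    simp only [G, Finset.coe_union, Finset.coe_image, Set.mem_union, Set.mem_image, SetLike.mem_coe] at hg
    rw [SetLike.mem_coe, RingHom.mem_ker]
    show ρ g = 0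
    rcases hg with ⟨x, hx, rfl⟩ | ⟨j, -, rfl⟩
    · rw [← hρi, hc x hx, map_pow, show ρi x.1 = 0 from x.2, zero_pow (pow_pos (Fact.out : p.Prime).pos N).ne']
    · have hzj : ρi (z j) = j := by
        have := hh (j : A.obj.right)
        rw [← hz j] at this
        exact this
      rw [map_sub, map_pow, ← hρi (a j), ha, map_pow, hzj,
        show ρ (MvPolynomial.X j) = (j : A.obj.right) from MvPolynomial.aeval_X _ j, sub_self]
  let k : A₀ →+* A.obj.right := Ideal.Quotient.lift _ ρ.toRingHom hG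
  haveI : Nontrivial A₀ := k.domain_nontrivial
  haveI : CharP A₀ p := (CharP.charP_iff_prime_eq_zero Fact.out).2 (by
    rw [← map_natCast (Ideal.Quotient.mk (Ideal.span (G : Set P))), CharP.cast_eq_zero, map_zero])
  let o : P →+* PerfectClosure A₀ p := (PerfectClosure.of A₀ p).comp (Ideal.Quotient.mk _)
  obtain ⟨ψ, hψ⟩ := hlift (PerfectClosure A₀ p) o
  have hoG : ∀ g ∈ G, o g = 0 := fun g hg => by
    show PerfectClosure.of A₀ p (Ideal.Quotient.mk _ g) = 0
    rw [Ideal.Quotient.eq_zero_iff_mem.2 (Ideal.subset_span hg), map_zero]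
  have hψK : K S ≤ RingHom.ker ψ := fun x hx => by
    obtain ⟨m, hm⟩ := hx
    refine IsReduced.eq_zero _ ⟨m, ?_⟩
    rw [← map_pow]
    refine (RingHom.mem_ker).1 (Ideal.span_le.2 ?_ hm)
    rintro _ ⟨y, hy, rfl⟩
    refine IsReduced.eq_zero _ ⟨p ^ N, ?_⟩
    rw [← map_pow, ← hc y hy, hψ]
    exact hoG _ (Finset.mem_union_left _ (Finset.mem_image_of_mem c hy))
  let ψb := Ideal.Quotient.lift (K S) ψ hψK
  have heq : (ψb.comp h).comp ρ.toRingHom = o := by
    refine MvPolynomial.ringHom_ext (fun b => ?_) (fun j => ?_)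
    · show ψb (h (ρ (algebraMap B P b))) = _
      rw [AlgHom.commutes]
      show ψb (h (A.obj.hom b)) = _
      rw [hhb]
      exact hψ _
    · show ψb (h (ρ (MvPolynomial.X j))) = _
      rw [show ρ (MvPolynomial.X j) = (j : A.obj.right) from MvPolynomial.aeval_X _ j, ← hz j]
      show ψ (z j) = _
      refine (bijective_iterateFrobenius (PerfectClosure A₀ p) p N).1 ?_
      rw [iterateFrobenius_def, iterateFrobenius_def, ← map_pow, ← ha, hψ, ← sub_eq_zero, ← map_pow, ← map_sub,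
        ← neg_sub, map_neg, hoG _ (Finset.mem_union_right _ (Finset.mem_image_of_mem _ (Finset.mem_univ j))), neg_zero]
  refine ⟨A₀, inferInstance, inferInstance, Algebra.FinitePresentation.quotient ⟨G, rfl⟩, k, ?_, ⟨fun x => ?_, ?_⟩⟩
  · exact RingHom.ext fun b => ρ.commutes b
  · obtain ⟨n, hn⟩ := hs x
    obtain ⟨y, hy⟩ : x ^ p ^ n ∈ ρ.range := hρ ▸ hn
    exact ⟨n, Ideal.Quotient.mk _ y, hy⟩
  · intro x hx
    obtain ⟨y, rfl⟩ := Ideal.Quotient.mk_surjective x
    refine IsPRadical.ker_le (PerfectClosure.of A₀ p) p ?_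
    show o y = 0
    rw [← heq]
    show ψb (h (ρ y)) = 0
    rw [show ρ y = 0 from hx, map_zero, map_zero]


theorem main [CharP B p] [IsFinitelyPresentable.{u} A] :
    ∃ (A₀ : Type u) (_ : CommRing A₀) (_ : Algebra B A₀) (_ : Algebra.FinitePresentation B A₀)
      (k : A₀ →+* A.obj.right), k.comp (algebraMap B A₀) = A.obj.hom.hom ∧ IsPRadical k p := by
  classical
  rcases subsingleton_or_nontrivial A.obj.right with hA | hA
  · exact ⟨B ⧸ (⊤ : Ideal B), inferInstance, inferInstance,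
      Algebra.FinitePresentation.quotient ⟨{1}, by simp [Ideal.span_singleton_one]⟩,
      Ideal.Quotient.lift ⊤ A.obj.hom.hom (fun _ _ => Subsingleton.elim _ _), Ideal.Quotient.lift_comp_mk _ _ _,
      ⟨fun x => ⟨0, 0, Subsingleton.elim _ _⟩, fun x _ => by
        rw [Subsingleton.elim x 0]; exact Ideal.zero_mem _⟩⟩
  haveI : CharP A.obj.right p := (CharP.charP_iff_prime_eq_zero Fact.out).2 A.property.1
  haveI : PerfectRing A.obj.right p := ⟨A.property.2⟩
  letI := A.obj.hom.hom.toAlgebra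
  obtain ⟨s, hs⟩ := exists_finset A
  exact core A s hs (PerfectClosure.of (MvPolynomial s B) p)
    (fun z => PerfectClosure.induction_on z fun x => ⟨x.1, x.2, by
      rw [← PerfectClosure.iterate_frobenius_mk (MvPolynomial s B) p x.1 x.2, ← coe_iterateFrobenius,
        iterateFrobenius_def]⟩)
    (fun L _ _ _ f => ⟨PerfectClosure.lift (MvPolynomial s B) p L f, fun y =>
      RingHom.congr_fun ((PerfectClosure.lift (MvPolynomial s B) p L).symm_apply_apply f) y⟩)

end Groth.Agent.H1PerfFP
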